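import Groth.Agent.Deform.Rational.Basic
import Groth.Agent.Deform.SpecialGrp.Solvable
import Groth.Agent.Deform.SpecialGrp.Bundle

/-!
# Connected solvable groups are rational
-/

set_option autoImplicit false
set_option linter.style.haveILetI false
set_option linter.unusedSectionVars false

universe u

open CategoryTheory CategoryTheory.Limits MonoidalCategory CartesianMonoidalCategory MonObj GrpObj AlgebraicGeometry

attribute [local instance] CategoryTheory.Hom.monoid CategoryTheory.Hom.group

noncomputable section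

namespace Groth.Agent.Deform.Rational

open Chev (Pt)

variable {k : Type u} [Field k] [IsAlgClosed k]

/-- An extension of `G_a` or `G_m` by a special rational group is rational. -/
theorem ratVar_step {J S Q : Over (Spec (CommRingCat.of k))} [GrpObj J] [GrpObj S] [GrpObj Q] [Smooth S.hom]
    [ConnectedSpace S.left] [IsAffine S.left] (j : J ⟶ S) [IsMonHom j] (q : S ⟶ Q) [IsMonHom q] [Surjective q.left]
    (hk : AlgGrp.IsKernel j q) (hQ : SpecialGrp.IsGaGm Q) (hsp : SpecialGrp.Special J) (hJ : RatVar J) :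
    RatVar S := by
  obtain ⟨n, W, f, g, hf, hg, hne⟩ := ratVar_of_isGaGm hQ
  haveI := hf; haveI := hg; haveI := hne
  haveI : IsIntegral S.left := Agent.GrpSchLib.Kunneth.isIntegral_grp S
  haveI : IsIntegral (Spec (CommRingCat.of (MvPolynomial (Fin n) k))) := inferInstance
  haveI : IsReduced Q.left := by
    rcases hQ with ⟨⟨e⟩⟩ | ⟨⟨e⟩⟩
    · obtain ⟨g'⟩ := SpecialGrp.nonempty_Ga_iso k
      haveI := isOpenImmersion_iso (SpecialGrp.isoOfGrp (e.trans g'.symm))
      haveI : IsDomain (SymmetricAlgebra k k) := SpecialGrp.isDomain_symmetricAlgebra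
      haveI : IsReduced (GrpSchLib.AffineHopf.sp k (SymmetricAlgebra k k)).left :=
        inferInstanceAs (IsReduced (Spec (CommRingCat.of (SymmetricAlgebra k k))))
      exact isReduced_of_isOpenImmersion (SpecialGrp.isoOfGrp (e.trans g'.symm)).hom.left
    · obtain ⟨g'⟩ := GrpSchLib.AffineHopf.nonempty_DS_iso k ℤ
      haveI := isOpenImmersion_iso (SpecialGrp.isoOfGrp (e.trans g'.symm))
      haveI : IsDomain (MonoidAlgebra k (Multiplicative ℤ)) := NoZeroDivisors.to_isDomain _
      haveI : IsReduced (GrpSchLib.AffineHopf.sp k (MonoidAlgebra k (Multiplicative ℤ))).left :=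
        inferInstanceAs (IsReduced (Spec (CommRingCat.of (MonoidAlgebra k (Multiplicative ℤ)))))
      exact isReduced_of_isOpenImmersion (SpecialGrp.isoOfGrp (e.trans g'.symm)).hom.left
  haveI : IrreducibleSpace Q.left := q.left.surjective.irreducibleSpace q.left.continuous
  haveI : IsIntegral Q.left := isIntegral_of_irreducibleSpace_of_isReduced _
  haveI : LocallyOfFiniteType (q.left ≫ Q.hom) := by rw [Over.w q]; infer_instance
  haveI : LocallyOfFiniteType q.left := locallyOfFiniteType_of_comp q.left Q.hom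
  obtain ⟨U, hU, s, hs⟩ := SpecialGrp.exists_section_open hsp (SpecialGrp.leftMul j) q
    (SpecialGrp.isPullback_leftMul j q hk)
  let V : Over (Spec (CommRingCat.of k)) := Over.mk (U.ι ≫ Q.hom)
  let ι₀ : V ⟶ Q := Over.homMk U.ι rfl
  let σ : V ⟶ S := Over.homMk s (by
    show s ≫ S.hom = U.ι ≫ Q.hom
    rw [← Over.w q, reassoc_of% hs])
  have hσ : σ ≫ q = ι₀ := Over.OverMorphism.ext hs
  have hjq : j ≫ q = 1 := by rw [hk.w, Hom.one_def]
  let θ : J ⊗ V ⟶ S := (fst J V ≫ j) * (snd J V ≫ σ)
  have hw : θ ≫ q = snd J V ≫ ι₀ := by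
    rw [MonObj.mul_comp, Category.assoc, hjq, MonObj.comp_one, _root_.one_mul, Category.assoc, hσ]
  have hmono : ∀ {T : Over (Spec (CommRingCat.of k))} (u v : T ⟶ J), u ≫ j = v ≫ j → u = v := fun u v e =>
    hk.hom_ext e (toUnit_unique _ _)
  have key : ∀ {T : Over (Spec (CommRingCat.of k))} (z : T ⟶ S) (u : T ⟶ V), z ≫ q = u ≫ ι₀ →
      ∃ b : T ⟶ J, b ≫ j = z * (u ≫ σ)⁻¹ := by
    intro T z u e
    obtain ⟨b, hb, -⟩ := hk.exists_lift (z * (u ≫ σ)⁻¹) (toUnit T) (by
      rw [MonObj.mul_comp, GrpObj.inv_comp, Category.assoc, hσ, e, mul_inv_cancel, Hom.one_def])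
    exact ⟨b, hb⟩
  have sq : IsPullback θ (snd J V) q ι₀ := by
    refine ⟨⟨hw⟩, ⟨PullbackCone.IsLimit.mk hw (fun c => lift (key c.fst c.snd c.condition).choose c.snd) ?_ ?_ ?_⟩⟩
    · intro c
      show lift _ _ ≫ ((fst J V ≫ j) * (snd J V ≫ σ)) = _
      rw [MonObj.comp_mul, lift_fst_assoc, lift_snd_assoc, (key c.fst c.snd c.condition).choose_spec,
        inv_mul_cancel_right]
    · intro c
      exact lift_snd _ _
    · intro c m h1 h2
      apply CartesianMonoidalCategory.hom_ext
      · rw [lift_fst]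
        refine hmono _ _ ?_
        rw [(key c.fst c.snd c.condition).choose_spec, ← h1]
        show _ = (m ≫ ((fst J V ≫ j) * (snd J V ≫ σ))) * _
        rw [MonObj.comp_mul, reassoc_of% h2, mul_inv_cancel_right, Category.assoc]
      · rw [lift_snd, h2]
  haveI : IsOpenImmersion θ.left :=
    MorphismProperty.of_isPullback (P := @IsOpenImmersion) (sq.map (Over.forget _)).flip
      (inferInstanceAs (IsOpenImmersion U.ι))
  refine RatVar.of_open θ (hJ.prod ?_)
  -- the open of the base is rational
  haveI : Nonempty (U : Scheme.{u}) := hU.to_subtype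
  haveI : IsOpenImmersion ι₀.left := inferInstanceAs (IsOpenImmersion U.ι)
  let P : Over (Spec (CommRingCat.of k)) := Over.mk (pullback.fst ι₀.left f.left ≫ V.hom)
  let b : P ⟶ W := Over.homMk (pullback.snd ι₀.left f.left) (by
    show _ = pullback.fst ι₀.left f.left ≫ V.hom
    rw [← Over.w ι₀, pullback.condition_assoc, Over.w f])
  refine ⟨n, P, Over.homMk (pullback.fst ι₀.left f.left) rfl, b ≫ g,
    inferInstanceAs (IsOpenImmersion (pullback.fst ι₀.left f.left)),
    inferInstanceAs (IsOpenImmersion (pullback.snd ι₀.left f.left ≫ g.left)), ?_⟩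
  obtain ⟨z, ⟨w, hw'⟩, ⟨v, hv⟩⟩ := nonempty_preirreducible_inter (X := Q.left) (U.ι.isOpenEmbedding.isOpen_range)
    (f.left.isOpenEmbedding.isOpen_range) ⟨_, ⟨Classical.arbitrary _, rfl⟩⟩ ⟨_, ⟨Classical.arbitrary _, rfl⟩⟩
  obtain ⟨p, -⟩ := Scheme.Pullback.exists_preimage_pullback (f := ι₀.left) (g := f.left) w v (hw'.trans hv.symm)
  exact ⟨p⟩

/-- **Connected solvable groups are rational.** -/
theorem ratVar_of_solvable (S : Over (Spec (CommRingCat.of k))) [GrpObj S] [IsAffine S.left] [Smooth S.hom]
    [ConnectedSpace S.left] [Group.IsSolvable (Pt S)] : RatVar S := by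
  haveI : IsAffineHom S.hom := isAffineHom_of_isAffine _
  haveI : IsLocallyNoetherian S.left := LocallyOfFiniteType.isLocallyNoetherian S.hom
  haveI : CompactSpace S.left := inferInstance
  haveI : AlgebraicGeometry.IsNoetherian S.left := {}
  haveI : TopologicalSpace.NoetherianSpace S.left := inferInstance
  suffices h : ∀ (C : TopologicalSpace.Closeds S.left) (H : Over (Spec (CommRingCat.of k))) [GrpObj H] (i : H ⟶ S)
      [IsMonHom i] [IsClosedImmersion i.left] [Smooth H.hom] [ConnectedSpace H.left],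
      Set.range i.left = (C : Set S.left) → RatVar H by
    haveI : IsClosedImmersion (𝟙 S : S ⟶ S).left := inferInstanceAs (IsClosedImmersion (𝟙 S.left))
    exact h ⊤ S (𝟙 S) (Set.range_eq_univ.mpr fun x => ⟨x, rfl⟩)
  intro C
  induction C using WellFoundedLT.induction with
  | ind C ih =>
    intro H _ i _ _ _ _ hr
    haveI : IsAffine H.left := isAffine_of_isAffineHom i.left
    haveI : Mono i := (Over.forget _).mono_of_mono_map (inferInstanceAs (Mono i.left))
    haveI : Group.IsSolvable (Pt H) := Group.isSolvable_of_isSolvable_injective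
      (f := ({ toFun := fun x => x ≫ i, map_one' := MonObj.one_comp _,
               map_mul' := fun a b => MonObj.mul_comp _ _ _ } : Pt H →* Pt S))
      fun a b h => (cancel_mono i).mp h
    by_cases hH : Red.IsTrivialGrp H
    · exact ratVar_of_isIso H hH
    obtain ⟨J, iJ, j, Q, iQ, q, hj, hjc, hJs, hJc, hq, hqs, hk, hQ, hne⟩ := SpecialGrp.exists_step H hH
    haveI := hj; haveI := hjc; haveI := hJs; haveI := hJc; haveI := hq; haveI := hqs
    haveI : IsClosedImmersion (j ≫ i).left := inferInstanceAs (IsClosedImmersion (j.left ≫ i.left))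
    haveI : IsAffine J.left := isAffine_of_isAffineHom j.left
    haveI : Mono j := (Over.forget _).mono_of_mono_map (inferInstanceAs (Mono j.left))
    haveI : Group.IsSolvable (Pt J) := Group.isSolvable_of_isSolvable_injective
      (f := ({ toFun := fun x => x ≫ j, map_one' := MonObj.one_comp _,
               map_mul' := fun a b => MonObj.mul_comp _ _ _ } : Pt J →* Pt H))
      fun a b h => (cancel_mono j).mp h
    refine ratVar_step j q hk hQ (SpecialGrp.special_of_solvable J)
      (ih ⟨Set.range (j ≫ i).left, (j ≫ i).left.isClosedEmbedding.isClosed_range⟩ ?_ J (j ≫ i) rfl)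
    refine lt_of_le_of_ne ?_ fun e => hne ?_
    · show Set.range (j ≫ i).left ⊆ (C : Set S.left)
      rw [← hr]
      rintro _ ⟨z, rfl⟩
      exact ⟨j.left z, rfl⟩
    · refine Set.eq_univ_of_forall fun z => ?_
      have e' : Set.range (j ≫ i).left = (C : Set S.left) := congrArg SetLike.coe e
      obtain ⟨w, hw⟩ : i.left z ∈ Set.range (j ≫ i).left := by rw [e', ← hr]; exact ⟨z, rfl⟩
      exact ⟨w, i.left.isClosedEmbedding.injective hw⟩

end Groth.Agent.Deform.Rational
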