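import Groth.Agent.Deform.Rational.Levi
import Groth.Agent.Deform.Rational.Solvable
import Groth.Agent.DynLib.Open
import Groth.Agent.DynLib.Contract
import Groth.Agent.UnipComp.Points

/-!
# The open cell of a one-parameter subgroup and rationality
-/

set_option autoImplicit false
set_option linter.style.haveILetI false
set_option linter.unusedSectionVars false
set_option maxHeartbeats 1000000

universe u

open CategoryTheory CategoryTheory.Limits MonoidalCategory CartesianMonoidalCategory MonObj AlgebraicGeometry
open WithConv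
open scoped TensorProduct LaurentPolynomial

noncomputable section

namespace Groth.Agent.Deform.Rational

open GrpSchLib.AffineHopf (sp spMap spMap_comp spMap_id exists_eq_spMap spMap_eq_mapMulEquiv)
open Chev (Pt pimg)

attribute [local instance] CategoryTheory.Hom.monoid CategoryTheory.Hom.group

variable {k : Type u} [Field k]

/-- The unit object is the spectrum of the base field. -/
theorem nonempty_unitIso (k : Type u) [Field k] : Nonempty (𝟙_ (Over (Spec (CommRingCat.of k))) ≅ sp k k) :=
  ⟨Over.isoMk (Iso.refl _) (by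
    show 𝟙 _ ≫ Spec.map (CommRingCat.ofHom (algebraMap k k)) = 𝟙 _
    rw [Category.id_comp, Algebra.algebraMap_self]
    exact Spec.map_id _)⟩

/-- An identification of the unit object with the spectrum of the base field. -/
def unitIso (k : Type u) [Field k] : 𝟙_ (Over (Spec (CommRingCat.of k))) ≅ sp k k :=
  (nonempty_unitIso k).some

/-- A rational point as a point of the Hopf algebra. -/
def toConvPt (A : Type u) [CommRing A] [HopfAlgebra k A] : Pt (sp k A) →* WithConv (A →ₐ[k] k) where
  toFun x := Spec.mapMulEquiv.symm ((unitIso k).inv ≫ x)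
  map_one' := by rw [MonObj.comp_one, map_one]
  map_mul' x y := by rw [MonObj.comp_mul, map_mul]

theorem toConvPt_injective (A : Type u) [CommRing A] [HopfAlgebra k A] : Function.Injective (toConvPt (k := k) A) :=
  fun x y h => (cancel_epi (unitIso k).inv).mp (Spec.mapMulEquiv.symm.injective h)

theorem toConvPt_comp {A B : Type u} [CommRing A] [HopfAlgebra k A] [CommRing B] [HopfAlgebra k B] (f : A →ₐ[k] B)
    (x : Pt (sp k B)) : toConvPt A (x ≫ spMap f) = toConv ((toConvPt B x).ofConv.comp f) := by
  obtain ⟨b, hb⟩ := exists_eq_spMap ((unitIso k).inv ≫ x)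
  show Spec.mapMulEquiv.symm ((unitIso k).inv ≫ x ≫ spMap f) =
    toConv ((Spec.mapMulEquiv.symm ((unitIso k).inv ≫ x)).ofConv.comp f)
  rw [← Category.assoc, hb, spMap_comp, spMap_eq_mapMulEquiv, spMap_eq_mapMulEquiv, MulEquiv.symm_apply_apply,
    MulEquiv.symm_apply_apply, ofConv_toConv]

variable [IsAlgClosed k]

theorem smooth_sp (B : Type u) [CommRing B] [Algebra k B] [Algebra.Smooth k B] : Smooth (sp k B).hom := by
  show Smooth (Spec.map (CommRingCat.ofHom (algebraMap k B)))
  rw [HasRingHomProperty.Spec_iff (P := @Smooth), CommRingCat.hom_ofHom, RingHom.smooth_algebraMap]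
  infer_instance

theorem connected_sp (B : Type u) [CommRing B] [Nontrivial B]
    (h : ∀ e : B, IsIdempotentElem e → e = 0 ∨ e = 1) : ConnectedSpace ↥(Spec (CommRingCat.of B)) := by
  haveI := DynLib.preconnectedSpace_of_idempotents h
  exact { toPreconnectedSpace := ‹PreconnectedSpace (PrimeSpectrum B)›
          toNonempty := inferInstanceAs (Nonempty (PrimeSpectrum B)) }

theorem nontrivial_quotient {A : Type u} [CommRing A] [HopfAlgebra k A] (J : Ideal A) [J.IsHopfIdeal k] :
    Nontrivial (A ⧸ J) := by
  refine Ideal.Quotient.nontrivial_iff.mpr fun h => ?_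
  have := Ideal.IsHopfIdeal.toIsCoideal (R := k) (I := J) |>.counit_eq_zero (x := (1 : A)) (by
    show (1 : A) ∈ J
    rw [h]; exact Submodule.mem_top)
  simp at this

/-- A connected smooth unipotent group is rational. -/
theorem ratVar_unipotent (B : Type u) [CommRing B] [HopfAlgebra k B] [Algebra.Smooth k B]
    (hB : HopfRep.IsUnipotent k B) (hne : Nontrivial B) (hid : ∀ e : B, IsIdempotentElem e → e = 0 ∨ e = 1) :
    RatVar (sp k B) := by
  haveI : Smooth (sp k B).hom := smooth_sp B
  haveI : ConnectedSpace (sp k B).left := connected_sp B hid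
  haveI : IsAffine (sp k B).left := inferInstanceAs (IsAffine (Spec (CommRingCat.of B)))
  haveI := UnipComp.Points.isNilpotent_points hB
  haveI : Group.IsSolvable (Pt (sp k B)) := Group.isSolvable_of_isSolvable_injective (toConvPt_injective B)
  exact ratVar_of_solvable (sp k B)

variable {A : Type u} [CommRing A] [HopfAlgebra k A] [Algebra.Smooth k A]

open DynLib in
/-- **The big cell**: rationality of the centraliser gives rationality of the group. -/
theorem ratVar_of_centralizer (hid : ∀ e : A, IsIdempotentElem e → e = 0 ∨ e = 1) (lam lamNeg : A →ₐc[k] k[T;T⁻¹])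
    (hneg : (lamNeg : A →ₐ[k] k[T;T⁻¹]) = Dyn.negParam k A lam)
    (hZ : RatVar (sp k (A ⧸ idealZ lam lamNeg))) : RatVar (sp k A) := by
  have hu : ∀ ν : A →ₐc[k] k[T;T⁻¹], RatVar (sp k (A ⧸ idealU ν)) := fun ν => by
    haveI := isHopfIdeal_idealU ν
    haveI : Algebra.Smooth k (A ⧸ idealU ν) :=
      ⟨formallySmooth_quotient_idealU ν, finitePresentation_quotient_idealU ν⟩
    haveI := nontrivial_quotient (k := k) (idealU ν)
    exact ratVar_unipotent (A ⧸ idealU ν) (isUnipotent_quotient_idealU (A := A) ν) inferInstance
      fun e he => by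
        have h := idempotent_quotient_idealU (A := A) ν e he
        rcases IsIdempotentElem.iff_eq_zero_or_one.mp (he.map (Bialgebra.counitAlgHom k (A ⧸ idealU ν))) with h0 | h0
        · exact Or.inl (h.trans (by rw [show Coalgebra.counit (R := k) e = (0 : k) from h0, map_zero]))
        · exact Or.inr (h.trans (by rw [show Coalgebra.counit (R := k) e = (1 : k) from h0, map_one]))
  have hP : RatVar (sp k (A ⧸ idealP lam)) :=
    ((hZ.prod (hu lam)).of_iso (spTensorIso _ _)).of_iso (spEquiv (leviEquiv lam lamNeg hneg))
  let m : sp k ((A ⧸ idealU lamNeg) ⊗[k] (A ⧸ idealP lam)) ⟶ sp k A :=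
    spMap (mulMap k (idealU lamNeg) (idealP lam))
  haveI : IsOpenImmersion m.left := isOpenImmersion_mulMap lam lamNeg hneg
  exact (((hu lamNeg).prod hP).of_iso (spTensorIso _ _)).of_open m

end Groth.Agent.Deform.Rational
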