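import Groth.Agent.Deform.SpecialGrp.GaIso
import Groth.Agent.Deform.SpecialGrp.Main
import Mathlib.LinearAlgebra.SymmetricAlgebra.Basis
import Mathlib.RingTheory.TensorProduct.MvPolynomial
import Mathlib.Algebra.Polynomial.Laurent

/-!
# Rational varieties over a field
-/

set_option autoImplicit false
set_option linter.style.haveILetI false
set_option linter.unusedSectionVars false

universe u

open CategoryTheory CategoryTheory.Limits MonoidalCategory CartesianMonoidalCategory AlgebraicGeometry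
open scoped TensorProduct LaurentPolynomial

noncomputable section

namespace Groth.Agent.Deform.Rational

open GrpSchLib.AffineHopf (sp spMap spMap_comp spMap_id)

variable {k : Type u} [Field k]

/-- `X` contains a non-empty open isomorphic to an open of an affine space. -/
def RatVar (X : Over (Spec (CommRingCat.of k))) : Prop :=
  ∃ (n : ℕ) (W : Over (Spec (CommRingCat.of k))) (f : W ⟶ X) (g : W ⟶ sp k (MvPolynomial (Fin n) k)),
    IsOpenImmersion f.left ∧ IsOpenImmersion g.left ∧ Nonempty W.left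

theorem isOpenImmersion_iso {X Y : Over (Spec (CommRingCat.of k))} (e : X ≅ Y) : IsOpenImmersion e.hom.left :=
  @IsOpenImmersion.of_isIso _ _ _ ((Over.forget _).mapIso e).isIso_hom

theorem RatVar.of_open {X Y : Over (Spec (CommRingCat.of k))} (f : Y ⟶ X) [IsOpenImmersion f.left]
    (h : RatVar Y) : RatVar X := by
  obtain ⟨n, W, a, b, ha, hb, hne⟩ := h
  haveI := ha
  exact ⟨n, W, a ≫ f, b, inferInstanceAs (IsOpenImmersion (a.left ≫ f.left)), hb, hne⟩

theorem RatVar.of_iso {X Y : Over (Spec (CommRingCat.of k))} (e : Y ≅ X) (h : RatVar Y) : RatVar X := by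
  haveI := isOpenImmersion_iso e
  exact h.of_open e.hom

/-- The product of the spectra is the spectrum of the tensor product. -/
def spTensorIso (A B : Type u) [CommRing A] [CommRing B] [Algebra k A] [Algebra k B] :
    sp k A ⊗ sp k B ≅ sp k (A ⊗[k] B) :=
  Over.isoMk (pullbackSpecIso k A B) (by
    show (pullbackSpecIso k A B).hom ≫ Spec.map (CommRingCat.ofHom (algebraMap k (A ⊗[k] B))) =
      pullback.fst _ _ ≫ Spec.map (CommRingCat.ofHom (algebraMap k A))
    rw [← Iso.eq_inv_comp, ← Category.assoc, pullbackSpecIso_inv_fst, ← Spec.map_comp]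
    rfl)

theorem spTensorIso_inv_fst (A B : Type u) [CommRing A] [CommRing B] [Algebra k A] [Algebra k B] :
    (spTensorIso A B).inv ≫ fst (sp k A) (sp k B) = spMap Algebra.TensorProduct.includeLeft := by
  refine Over.OverMorphism.ext ?_
  exact pullbackSpecIso_inv_fst k A B

theorem spTensorIso_inv_snd (A B : Type u) [CommRing A] [CommRing B] [Algebra k A] [Algebra k B] :
    (spTensorIso A B).inv ≫ snd (sp k A) (sp k B) = spMap Algebra.TensorProduct.includeRight := by
  refine Over.OverMorphism.ext ?_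
  exact pullbackSpecIso_inv_snd k A B

/-- An algebra isomorphism gives an isomorphism of spectra. -/
def spEquiv {A B : Type u} [CommRing A] [CommRing B] [Algebra k A] [Algebra k B] (e : B ≃ₐ[k] A) :
    sp k A ≅ sp k B where
  hom := spMap (e : B →ₐ[k] A)
  inv := spMap (e.symm : A →ₐ[k] B)
  hom_inv_id := by rw [spMap_comp, ← spMap_id]; congr 1; ext a; exact e.apply_symm_apply a
  inv_hom_id := by rw [spMap_comp, ← spMap_id]; congr 1; ext a; exact e.symm_apply_apply a

theorem isOpenImmersion_tensorHom {X X' Y Y' : Over (Spec (CommRingCat.of k))} (f : X ⟶ X') (g : Y ⟶ Y')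
    [IsOpenImmersion f.left] [IsOpenImmersion g.left] : IsOpenImmersion (f ⊗ₘ g).left := by
  rw [Over.tensorHom_left]
  exact MorphismProperty.pullbackMap (P := @IsOpenImmersion)
    ‹IsOpenImmersion f.left› ‹IsOpenImmersion g.left› (Over.w f).symm (Over.w g).symm

theorem nonempty_tensor (X Y : Over (Spec (CommRingCat.of k))) [Nonempty X.left] [Nonempty Y.left] :
    Nonempty (X ⊗ Y).left := by
  obtain ⟨x⟩ := ‹Nonempty X.left›
  obtain ⟨y⟩ := ‹Nonempty Y.left›
  obtain ⟨z, -⟩ := Scheme.Pullback.exists_preimage_pullback (f := X.hom) (g := Y.hom) x y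
    (Subsingleton.elim (α := PrimeSpectrum k) _ _)
  exact ⟨z⟩

/-- **The product of rational varieties is rational.** -/
theorem RatVar.prod {X Y : Over (Spec (CommRingCat.of k))} (hX : RatVar X) (hY : RatVar Y) : RatVar (X ⊗ Y) := by
  obtain ⟨n, V, a, b, ha, hb, hVne⟩ := hX
  obtain ⟨m, W, c, d, hc, hd, hWne⟩ := hY
  haveI := ha; haveI := hb; haveI := hc; haveI := hd; haveI := hVne; haveI := hWne
  haveI := isOpenImmersion_tensorHom b d
  let e := spTensorIso (k := k) (MvPolynomial (Fin n) k) (MvPolynomial (Fin m) k) ≪≫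
    spEquiv ((MvPolynomial.tensorEquivSum k (Fin n) (Fin m) k).trans
      (MvPolynomial.renameEquiv k finSumFinEquiv)).symm
  haveI := isOpenImmersion_iso e
  exact ⟨n + m, V ⊗ W, a ⊗ₘ c, (b ⊗ₘ d) ≫ e.hom, isOpenImmersion_tensorHom a c,
    inferInstanceAs (IsOpenImmersion ((b ⊗ₘ d).left ≫ e.hom.left)), nonempty_tensor V W⟩

theorem ratVar_of_isIso (X : Over (Spec (CommRingCat.of k))) (h : IsIso X.hom) : RatVar X := by
  haveI := h
  let e : sp k (MvPolynomial (Fin 0) k) ≅ X :=
    spEquiv (MvPolynomial.isEmptyAlgEquiv k (Fin 0)).symm ≪≫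
      Over.isoMk (asIso X.hom).symm (by
        show inv X.hom ≫ X.hom = Spec.map (CommRingCat.ofHom (algebraMap k k))
        rw [IsIso.inv_hom_id, Algebra.algebraMap_self]
        exact (Spec.map_id _).symm)
  haveI := isOpenImmersion_iso e
  exact RatVar.of_open e.hom ⟨0, _, 𝟙 _, 𝟙 _, inferInstanceAs (IsOpenImmersion (𝟙 _)),
    inferInstanceAs (IsOpenImmersion (𝟙 _)), inferInstanceAs (Nonempty (PrimeSpectrum (MvPolynomial (Fin 0) k)))⟩

/-- The affine line is rational. -/
theorem ratVar_line : RatVar (sp k (MvPolynomial (Fin 1) k)) :=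
  ⟨1, _, 𝟙 _, 𝟙 _, inferInstanceAs (IsOpenImmersion (𝟙 _)), inferInstanceAs (IsOpenImmersion (𝟙 _)),
    inferInstanceAs (Nonempty (PrimeSpectrum (MvPolynomial (Fin 1) k)))⟩

/-- The additive and multiplicative groups are rational. -/
theorem ratVar_of_isGaGm {Q : Over (Spec (CommRingCat.of k))} [GrpObj Q] (hQ : SpecialGrp.IsGaGm Q) : RatVar Q := by
  rcases hQ with ⟨⟨e⟩⟩ | ⟨⟨e⟩⟩
  · obtain ⟨g⟩ := SpecialGrp.nonempty_Ga_iso k
    refine RatVar.of_iso (SpecialGrp.isoOfGrp (g.trans e.symm)) ?_
    exact ratVar_line.of_iso (spEquiv (SymmetricAlgebra.equivMvPolynomial (Module.Basis.singleton (Fin 1) k)))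
  · obtain ⟨g⟩ := GrpSchLib.AffineHopf.nonempty_DS_iso k ℤ
    refine RatVar.of_iso (SpecialGrp.isoOfGrp (g.trans e.symm)) ?_
    let f : Polynomial k →ₐ[k] MonoidAlgebra k (Multiplicative ℤ) :=
      ((AddMonoidAlgebra.toMultiplicativeAlgEquiv k k ℤ : k[T;T⁻¹] →ₐ[k] MonoidAlgebra k (Multiplicative ℤ))).comp
        Polynomial.toLaurentAlg
    haveI : IsOpenImmersion (spMap (Polynomial.toLaurentAlg (R := k))).left :=
      IsOpenImmersion.of_isLocalization (S := k[T;T⁻¹]) (Polynomial.X : Polynomial k)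
    let a : sp k (MonoidAlgebra k (Multiplicative ℤ)) ≅ sp k k[T;T⁻¹] :=
      spEquiv (AddMonoidAlgebra.toMultiplicativeAlgEquiv k k ℤ)
    let l : sp k (Polynomial k) ≅ sp k (MvPolynomial (Fin 1) k) :=
      spEquiv (MvPolynomial.uniqueAlgEquiv k (Fin 1))
    haveI := isOpenImmersion_iso a
    haveI := isOpenImmersion_iso l
    exact ⟨1, _, 𝟙 _, a.hom ≫ spMap (Polynomial.toLaurentAlg (R := k)) ≫ l.hom,
      inferInstanceAs (IsOpenImmersion (𝟙 _)),
      inferInstanceAs (IsOpenImmersion (a.hom.left ≫ (spMap (Polynomial.toLaurentAlg (R := k))).left ≫ l.hom.left)),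
      inferInstanceAs (Nonempty (PrimeSpectrum (MonoidAlgebra k (Multiplicative ℤ))))⟩

end Groth.Agent.Deform.Rational
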