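import Groth.Agent.DynLib.Levi
import Groth.Agent.DynLib.Mul
import Groth.Agent.DynLib.Smooth
import Groth.Agent.DynLib.Conn

/-!
# The centraliser of a one-parameter subgroup and the Levi decomposition
-/

universe u

open WithConv LaurentPolynomial
open scoped TensorProduct

namespace Groth.Agent.Deform.Rational

open DynLib

attribute [local instance] ptGroup
attribute [-simp] LaurentPolynomial.single_eq_C_mul_T

noncomputable section

variable {k : Type u} [CommRing k] {A : Type u} [CommRing A] [HopfAlgebra k A]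
  {R S : Type u} [CommRing R] [Algebra k R] [CommRing S] [Algebra k S]
  (lam lamNeg : A →ₐc[k] k[T;T⁻¹])

/-- The ideal of the centraliser. -/
def idealZ : Ideal A := idealP lam ⊔ idealP lamNeg

theorem idealP_le_idealZ : idealP lam ≤ idealZ lam lamNeg := le_sup_left

theorem isHopfIdeal_idealZ : (idealZ lam lamNeg).IsHopfIdeal k :=
  isHopfIdeal_of_subgroup _ (fun R _ _ => limSubgroup lam R ⊓ limSubgroup lamNeg R) fun R _ _ g => by
    rw [idealZ, sup_le_iff, le_ker_idealP_iff, le_ker_idealP_iff, Subgroup.mem_inf, mem_limSubgroup,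
      mem_limSubgroup]

variable (hneg : (lamNeg : A →ₐ[k] k[T;T⁻¹]) = Dyn.negParam k A lam)

include hneg in
theorem le_ker_idealZ_iff (g : Pt k A R) : idealZ lam lamNeg ≤ RingHom.ker g.ofConv ↔ IsFixedPt lam g := by
  rw [idealZ, sup_le_iff, le_ker_idealP_iff, le_ker_idealP_iff, isFixedPt_iff]
  constructor
  · rintro ⟨h1, h2⟩ a n hn
    rcases lt_or_gt_of_ne hn with h | h
    · exact h1 a n h
    · have := h2 a (-n) (by omega)
      rwa [pr_neg lam lamNeg hneg, neg_neg] at this
  · intro h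
    refine ⟨fun a n hn => h a n (ne_of_lt hn), fun a n hn => ?_⟩
    rw [pr_neg lam lamNeg hneg]
    exact h a (-n) (by omega)

theorem eq_one_of_isFixedPt_hasLimOne {g : Pt k A R} (h1 : IsFixedPt lam g) (h2 : HasLimOne lam g) : g = 1 := by
  apply WithConv.ofConv_injective
  apply AlgHom.ext
  intro a
  rw [AlgHom.convOne_apply, ← h1.apply_pr_zero lam a, h2.2 a]

/-- The universal point with a limit. -/
def univLim : limSubgroup lam (A ⧸ idealP lam) :=
  ⟨quotPt (idealP lam), (mem_limSubgroup lam _).2 (hasLim_quotPt lam)⟩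

include hneg in
theorem le_ker_lim_univLim : idealZ lam lamNeg ≤ RingHom.ker (lim lam (univLim lam)).ofConv :=
  (le_ker_idealZ_iff lam lamNeg hneg _).2 (isFixedPt_lim lam _)

/-- The limit map from the parabolic to the centraliser, on functions. -/
def secZ : A ⧸ idealZ lam lamNeg →ₐ[k] A ⧸ idealP lam :=
  Ideal.Quotient.liftₐ _ (lim lam (univLim lam)).ofConv (le_ker_lim_univLim lam lamNeg hneg)

/-- The inclusion of the centraliser in the parabolic, on functions. -/
def redZ : A ⧸ idealP lam →ₐ[k] A ⧸ idealZ lam lamNeg :=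
  Ideal.Quotient.factorₐ k (idealP_le_idealZ lam lamNeg)

theorem redZ_comp_secZ : (redZ lam lamNeg).comp (secZ lam lamNeg hneg) = AlgHom.id k _ := by
  refine Ideal.Quotient.algHom_ext k (AlgHom.ext fun a => ?_)
  show redZ lam lamNeg ((lim lam (univLim lam)).ofConv a) = Ideal.Quotient.mkₐ k (idealZ lam lamNeg) a
  rw [lim_apply]
  exact ((le_ker_idealZ_iff lam lamNeg hneg (quotPt (idealZ lam lamNeg))).1
    fun _ ha => Ideal.Quotient.eq_zero_iff_mem.2 ha).apply_pr_zero lam a

include hneg in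
theorem formallySmooth_idealZ [Algebra.FormallySmooth k A] : Algebra.FormallySmooth k (A ⧸ idealZ lam lamNeg) := by
  have := formallySmooth_quotient_idealP lam
  refine Algebra.FormallySmooth.of_comp_surjective fun B _ _ I hI f => ?_
  obtain ⟨l, hl⟩ := Algebra.FormallySmooth.comp_surjective k (A ⧸ idealP lam) I hI (f.comp (redZ lam lamNeg))
  refine ⟨l.comp (secZ lam lamNeg hneg), ?_⟩
  rw [← AlgHom.comp_assoc, hl, AlgHom.comp_assoc, redZ_comp_secZ, AlgHom.comp_id]

/-- The universal point of the parabolic, contracted. -/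
def contracted : Pt k A (A ⧸ idealP lam) := (lim lam (univLim lam))⁻¹ * quotPt (idealP lam)

theorem le_ker_contracted : idealU lam ≤ RingHom.ker (contracted lam).ofConv := by
  refine (le_ker_idealU_iff lam _).2 ((mem_limOneSubgroup lam _).1 ?_)
  let z' : limSubgroup lam (A ⧸ idealP lam) :=
    ⟨lim lam (univLim lam), (mem_limSubgroup lam _).2 (isFixedPt_lim lam _).hasLim⟩
  have hlz : lim lam z' = lim lam (univLim lam) := by
    apply WithConv.ofConv_injective
    apply AlgHom.ext
    intro a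
    rw [lim_apply]
    exact (isFixedPt_lim lam (univLim lam)).apply_pr_zero lam a
  refine Subgroup.mem_map.2 ⟨z'⁻¹ * univLim lam, ?_, rfl⟩
  rw [MonoidHom.mem_ker, map_mul, map_inv, hlz]
  exact inv_mul_cancel _

include hneg in
theorem idealP_le_ker_mulMap :
    idealP lam ≤ RingHom.ker (mulMap k (idealZ lam lamNeg) (idealU lam)) := by
  refine (le_ker_idealP_iff lam (toConv (mulMap k (idealZ lam lamNeg) (idealU lam)))).2 ?_
  rw [← AlgHom.id_comp (mulMap k (idealZ lam lamNeg) (idealU lam)), comp_mulMap]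
  exact (mem_limSubgroup lam _).1 (mul_mem
    ((mem_limSubgroup lam _).2 ((le_ker_idealZ_iff lam lamNeg hneg _).1 (le_ker_fstPt _)).hasLim)
    ((mem_limSubgroup lam _).2 ((le_ker_idealU_iff lam _).1 (le_ker_sndPt _)).1))

/-- **The Levi decomposition of the functions on the parabolic.** -/
def leviEquiv : (A ⧸ idealP lam) ≃ₐ[k] (A ⧸ idealZ lam lamNeg) ⊗[k] (A ⧸ idealU lam) := by
  let φ : A ⧸ idealP lam →ₐ[k] (A ⧸ idealZ lam lamNeg) ⊗[k] (A ⧸ idealU lam) :=
    Ideal.Quotient.liftₐ _ (mulMap k _ _) (idealP_le_ker_mulMap lam lamNeg hneg)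
  let ψ : (A ⧸ idealZ lam lamNeg) ⊗[k] (A ⧸ idealU lam) →ₐ[k] A ⧸ idealP lam :=
    pairPt (lim lam (univLim lam)) (contracted lam) (le_ker_lim_univLim lam lamNeg hneg) (le_ker_contracted lam)
  have hψφ : ψ.comp φ = AlgHom.id k _ := by
    refine Ideal.Quotient.algHom_ext k (WithConv.toConv_injective ?_)
    show toConv (ψ.comp (mulMap k _ _)) = quotPt (idealP lam)
    rw [pairPt_comp_mulMap, contracted, mul_inv_cancel_left]
  refine AlgEquiv.ofAlgHom φ ψ ?_ hψφ
  -- uniqueness of the decomposition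
  have e : toConv ((φ.comp ψ).comp (mulMap k (idealZ lam lamNeg) (idealU lam))) =
      toConv ((AlgHom.id k _).comp (mulMap k (idealZ lam lamNeg) (idealU lam))) := by
    refine congrArg toConv ?_
    rw [AlgHom.id_comp, AlgHom.comp_assoc]
    have : ψ.comp (mulMap k (idealZ lam lamNeg) (idealU lam)) = Ideal.Quotient.mkₐ k (idealP lam) := by
      rw [show mulMap k (idealZ lam lamNeg) (idealU lam) = φ.comp (Ideal.Quotient.mkₐ k _) from rfl,
        ← AlgHom.comp_assoc, hψφ, AlgHom.id_comp]
    rw [this]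
    rfl
  rw [comp_mulMap, comp_mulMap] at e
  set x := φ.comp ψ
  set y := AlgHom.id k ((A ⧸ idealZ lam lamNeg) ⊗[k] (A ⧸ idealU lam))
  have e1 : (fstPt y)⁻¹ * fstPt x = sndPt y * (sndPt x)⁻¹ := by
    rw [eq_mul_inv_iff_mul_eq, mul_assoc, e, inv_mul_cancel_left]
  have hfix : IsFixedPt lam ((fstPt y)⁻¹ * fstPt x) := by
    have hx := (le_ker_idealZ_iff lam lamNeg hneg _).1 (le_ker_fstPt x)
    have hy := (le_ker_idealZ_iff lam lamNeg hneg _).1 (le_ker_fstPt y)
    unfold IsFixedPt at hx hy ⊢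
    rw [map_mul, map_inv, map_mul, map_inv, hx, hy]
  have h1 : HasLimOne lam ((fstPt y)⁻¹ * fstPt x) := by
    rw [e1]
    exact (mem_limOneSubgroup lam _).1 (mul_mem
      ((mem_limOneSubgroup lam _).2 ((le_ker_idealU_iff lam _).1 (le_ker_sndPt y)))
      (inv_mem ((mem_limOneSubgroup lam _).2 ((le_ker_idealU_iff lam _).1 (le_ker_sndPt x)))))
  have h3 := eq_one_of_isFixedPt_hasLimOne lam hfix h1
  refine hom_ext_of_components (inv_mul_eq_one.1 h3).symm ?_
  rw [e1, mul_inv_eq_one] at h3
  exact h3.symm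

include hneg in
/-- Without idempotents upstairs there are none on the centraliser. -/
theorem preconnected_idealZ (h : ∀ e : A ⧸ idealP lam, IsIdempotentElem e → e = 0 ∨ e = 1)
    (e : A ⧸ idealZ lam lamNeg) (he : IsIdempotentElem e) : e = 0 ∨ e = 1 := by
  have hr : ∀ z, redZ lam lamNeg (secZ lam lamNeg hneg z) = z := AlgHom.congr_fun (redZ_comp_secZ lam lamNeg hneg)
  rcases h _ (he.map (secZ lam lamNeg hneg)) with h1 | h1
  · left; rw [← hr e, h1, map_zero]
  · right; rw [← hr e, h1, map_one]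

end

end Groth.Agent.Deform.Rational
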